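import Mathlib

set_option linter.style.haveILetI false
set_option linter.unusedVariables false
set_option linter.unusedSectionVars false
set_option autoImplicit false
set_option backward.isDefEq.respectTransparency.types false
set_option synthInstance.maxHeartbeats 400000
set_option maxHeartbeats 1600000

universe u

/-! helper7: any family of extensions of a field embeds in a common extension (transcendence bases and an algebraic closure), and a product of surjective schemes over a base is surjective over the base -/

open CategoryTheory CategoryTheory.Limits AlgebraicGeometry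

namespace Groth.Agent.Helper7.ProdSurj

section Field

variable {k : Type u} [Field k] {I : Type u} (K : I → Type u) [∀ i, Field (K i)]
  [∀ i, Algebra k (K i)] (s : ∀ i, Set (K i))

/-- the polynomial ring on the disjoint union of the given sets. -/
abbrev BigPoly : Type u := MvPolynomial (Σ i, ↥(s i)) k

/-- an algebraically closed field containing the polynomial ring on the disjoint union. -/
abbrev BigField : Type u := AlgebraicClosure (FractionRing (MvPolynomial (Σ i, ↥(s i)) k))

/-- the inclusion of the polynomial ring. -/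
noncomputable def bigHom : BigPoly (k := k) K s →+* BigField (k := k) K s :=
  (algebraMap (FractionRing (MvPolynomial (Σ i, ↥(s i)) k)) (BigField (k := k) K s)).comp
    (algebraMap (MvPolynomial (Σ i, ↥(s i)) k) (FractionRing (MvPolynomial (Σ i, ↥(s i)) k)))

theorem bigHom_injective : Function.Injective (bigHom (k := k) K s) :=
  (algebraMap (FractionRing (MvPolynomial (Σ i, ↥(s i)) k))
    (BigField (k := k) K s)).injective.comp
    (IsFractionRing.injective (MvPolynomial (Σ i, ↥(s i)) k)
      (FractionRing (MvPolynomial (Σ i, ↥(s i)) k)))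

theorem exists_lift (hs : ∀ i, IsTranscendenceBasis k ((↑) : ↥(s i) → K i)) (i : I) :
    ∃ ψ : K i →+* BigField (k := k) K s,
      ψ.comp (algebraMap k (K i)) = (bigHom (k := k) K s).comp MvPolynomial.C := by
  classical
  let θ : MvPolynomial (↥(s i)) k →+* K i :=
    (MvPolynomial.aeval (fun x : ↥(s i) => (x : K i))).toRingHom
  have hθ : Function.Injective θ := (hs i).1
  let incl : ↥(s i) → (Σ i, ↥(s i)) := fun x => ⟨i, x⟩
  have hincl : Function.Injective incl := by
    intro x y hxy
    have h2 : (⟨i, x⟩ : Σ i, ↥(s i)) = ⟨i, y⟩ := hxy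
    rw [Sigma.mk.inj_iff] at h2
    exact eq_of_heq h2.2
  let ρ : MvPolynomial (↥(s i)) k →+* BigField (k := k) K s :=
    (bigHom (k := k) K s).comp (MvPolynomial.rename (R := k) incl).toRingHom
  have hρ : Function.Injective ρ :=
    (bigHom_injective (k := k) K s).comp (MvPolynomial.rename_injective incl hincl)
  letI a1 : Algebra (MvPolynomial (↥(s i)) k) (K i) := θ.toAlgebra
  letI a2 : Algebra (MvPolynomial (↥(s i)) k) (BigField (k := k) K s) := ρ.toAlgebra
  haveI : Module.IsTorsionFree (MvPolynomial (↥(s i)) k) (K i) :=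
    Module.isTorsionFree_iff_algebraMap_injective.mpr hθ
  haveI : Module.IsTorsionFree (MvPolynomial (↥(s i)) k) (BigField (k := k) K s) :=
    Module.isTorsionFree_iff_algebraMap_injective.mpr hρ
  haveI : Algebra.IsAlgebraic (MvPolynomial (↥(s i)) k) (K i) := by
    haveI := (hs i).isAlgebraic
    refine Algebra.IsAlgebraic.of_ringHom_of_comp_eq
      (S := Algebra.adjoin k (Set.range (fun x : ↥(s i) => (x : K i)))) (B := K i)
      (f := ((hs i).1.aevalEquiv : MvPolynomial (↥(s i)) k →+* _)) (g := RingHom.id (K i))
      ((hs i).1.aevalEquiv.surjective) Function.injective_id ?_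
    ext p
    · exact (hs i).1.algebraMap_aevalEquiv (MvPolynomial.C p)
    · exact (hs i).1.algebraMap_aevalEquiv (MvPolynomial.X p)
  let ψ : K i →ₐ[MvPolynomial (↥(s i)) k] BigField (k := k) K s := IsAlgClosed.lift
  refine ⟨ψ.toRingHom, ?_⟩
  ext c
  show ψ (algebraMap k (K i) c) = bigHom (k := k) K s (MvPolynomial.C c)
  have h1 : algebraMap k (K i) c =
      algebraMap (MvPolynomial (↥(s i)) k) (K i) (MvPolynomial.C c) := by
    show algebraMap k (K i) c =
      MvPolynomial.aeval (fun x : ↥(s i) => (x : K i)) (MvPolynomial.C c)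
    rw [MvPolynomial.aeval_C]
  rw [h1, ψ.commutes]
  show bigHom (k := k) K s (MvPolynomial.rename incl (MvPolynomial.C c)) = _
  rw [MvPolynomial.rename_C]

end Field

/-- any family of extensions of a field embeds into a common extension. -/
theorem exists_common_extension {k : Type u} [Field k] {I : Type u} (K : I → Type u)
    [∀ i, Field (K i)] (ι : ∀ i, k →+* K i) :
    ∃ (Ω : Type u) (_ : Field Ω) (φ : k →+* Ω) (ψ : ∀ i, K i →+* Ω),
      ∀ i, (ψ i).comp (ι i) = φ := by
  classical
  letI algK : ∀ i, Algebra k (K i) := fun i => (ι i).toAlgebra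
  have hs : ∀ i, ∃ s : Set (K i), IsTranscendenceBasis k ((↑) : ↥s → K i) := fun i =>
    exists_isTranscendenceBasis k (K i)
  choose s hs using hs
  have key := exists_lift (k := k) K s hs
  choose ψ hψ using key
  exact ⟨BigField (k := k) K s, inferInstance, (bigHom (k := k) K s).comp MvPolynomial.C, ψ,
    fun i => hψ i⟩

/-- a product of surjective schemes over `S` is surjective over `S`. -/
theorem main {S : Scheme.{u}} {I : Type u} (T : I → Over S)
    (hT : ∀ i, Surjective (T i).hom) (c : Fan T) (hc : IsLimit c) :
    Surjective c.pt.hom := by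
  refine ⟨fun s => ?_⟩
  choose t ht using fun i => (hT i).surj s
  obtain ⟨Ω, _, φ, ψ, hψ⟩ := exists_common_extension
    (k := S.residueField s) (fun i => (T i).left.residueField (t i))
    (fun i => ((S.residueFieldCongr (ht i).symm).hom ≫
      (T i).hom.residueFieldMap (t i)).hom)
  let b : Spec (CommRingCat.of Ω) ⟶ S :=
    Spec.map (CommRingCat.ofHom φ) ≫ S.fromSpecResidueField s
  let a : ∀ i, Spec (CommRingCat.of Ω) ⟶ (T i).left := fun i =>
    Spec.map (CommRingCat.ofHom (ψ i)) ≫ (T i).left.fromSpecResidueField (t i)
  have hab : ∀ i, a i ≫ (T i).hom = b := by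
    intro i
    have h1 : CommRingCat.ofHom φ = ((S.residueFieldCongr (ht i).symm).hom ≫
        (T i).hom.residueFieldMap (t i)) ≫ CommRingCat.ofHom (ψ i) := by
      ext x
      have := congrArg (fun f => f x) (hψ i)
      exact this.symm
    show (Spec.map (CommRingCat.ofHom (ψ i)) ≫ (T i).left.fromSpecResidueField (t i)) ≫
      (T i).hom = Spec.map (CommRingCat.ofHom φ) ≫ S.fromSpecResidueField s
    rw [Category.assoc, ← Scheme.Hom.SpecMap_residueFieldMap_fromSpecResidueField,
      ← Scheme.residueFieldCongr_fromSpecResidueField (ht i).symm, h1, Spec.map_comp,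
      Spec.map_comp, Category.assoc, Category.assoc]
    rfl
  let W : Over S := Over.mk b
  let fan : Fan T := Fan.mk W (fun i => Over.homMk (a i) (hab i))
  let ℓ : W ⟶ c.pt := hc.lift fan
  have hℓ : ℓ.left ≫ c.pt.hom = b := Over.w ℓ
  obtain ⟨ω⟩ : Nonempty ↥(Spec (CommRingCat.of Ω)) := inferInstance
  refine ⟨ℓ.left ω, ?_⟩
  rw [← Scheme.Hom.comp_apply, hℓ]
  show (Spec.map (CommRingCat.ofHom φ) ≫ S.fromSpecResidueField s) ω = s
  rw [Scheme.Hom.comp_apply, Scheme.fromSpecResidueField_apply]

end Groth.Agent.Helper7.ProdSurj
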